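import Cfsg.Agent.Lib.BlockLocal.PrincipalColumns
import Mathlib.GroupTheory.Transfer
import Mathlib.GroupTheory.SpecificGroups.KleinFour

/-!
# Groups with a Klein four Sylow 2-subgroup
-/

set_option autoImplicit false

namespace CfsgLib.BlockLocal

open Cfsg CfsgLib.CharTheory CfsgLib.Blocks Finset

universe u

variable {G : Type u} [Group G] [Fintype G]

/-- A character sums over a subgroup to a multiple of its order. -/
theorem exists_nat_sum_subgroup (K : Subgroup G) [Fintype K] (χ : IrrCharacter G) :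
    ∃ m : ℕ, ∑ k : K, (χ : G → ℂ) k = (Nat.card K : ℂ) * (m : ℂ) := by
  classical
  haveI := Fintype.ofFinite (IrrCharacter K)
  obtain ⟨m, -, hm⟩ := res_eq_sum K χ
  refine ⟨m (trivIrr K), ?_⟩
  rw [← hm (trivIrr K), classInner, ← mul_assoc,
    mul_inv_cancel₀ (Nat.cast_ne_zero.2 Nat.card_pos.ne'), one_mul]
  refine sum_congr rfl fun k _ => ?_
  rw [show ((trivIrr K : IrrCharacter K) : K → ℂ) k = 1 from rfl, map_one, mul_one]

/-- Characters take rational integer values at involutions. -/
theorem exists_int_apply_involution (χ : IrrCharacter G) {z : G} (hz : orderOf z = 2) :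
    ∃ a : ℤ, (χ : G → ℂ) z = (a : ℂ) := by
  classical
  obtain ⟨m, hm⟩ := exists_nat_sum_subgroup (Subgroup.zpowers z) χ
  refine ⟨2 * (m : ℤ) - (charDegree (χ : G → ℂ) : ℤ), ?_⟩
  have hcard : Nat.card (Subgroup.zpowers z) = 2 := by rw [Nat.card_zpowers, hz]
  have hne : (1 : Subgroup.zpowers z) ≠ ⟨z, Subgroup.mem_zpowers z⟩ := fun h => by
    have h' : (1 : G) = z := congrArg Subtype.val h
    simp [← h'] at hz
  have huniv : (univ : Finset (Subgroup.zpowers z)) = {1, ⟨z, Subgroup.mem_zpowers z⟩} := by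
    symm
    refine eq_univ_of_card _ ?_
    rw [card_pair hne, ← Nat.card_eq_fintype_card, hcard]
  rw [huniv, sum_pair hne, hcard, OneMemClass.coe_one] at hm
  push_cast
  rw [coe_charDegree]
  push_cast at hm
  linear_combination hm

variable (P : Sylow 2 G) (hP : IsKleinFour (P : Subgroup G))
include hP

theorem mul_self_of_mem_kleinFour {w : G} (hw : w ∈ (P : Subgroup G)) : w * w = 1 := by
  have h := Monoid.pow_exponent_eq_one (⟨w, hw⟩ : (P : Subgroup G))
  rw [IsKleinFour.exponent_two, pow_two] at h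
  exact congrArg Subtype.val h

theorem exists_involution_mem : ∃ z ∈ (P : Subgroup G), orderOf z = 2 := by
  have h4 : 2 ∣ Nat.card (P : Subgroup G) := by rw [IsKleinFour.card_four]; decide
  obtain ⟨z, hz⟩ := exists_prime_orderOf_dvd_card' 2 h4
  exact ⟨z, z.2, by rw [Subgroup.orderOf_coe, hz]⟩

/-- Every element of even order lies in the section of an involution. -/
theorem exists_conj_section (z : G) (hz2 : orderOf z = 2)
    (hone : ∀ s t : G, orderOf s = 2 → orderOf t = 2 → IsConj s t) {g : G} (hg : 2 ∣ orderOf g) :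
    ∃ c : G, ∃ y : Subgroup.centralizer ({z} : Set G), ¬ 2 ∣ orderOf y ∧
      c * g * c⁻¹ = z * (y : G) := by
  obtain ⟨x, hx⟩ := exists_isPPart 2 g
  have hx1 : x ≠ 1 := fun h => (isPPart_eq_one_iff hx).1 h hg
  have hxk : ∃ k, orderOf x = 2 ^ k := by
    obtain ⟨_, -, -, h, -⟩ := hx
    exact h
  have hx2 : orderOf x = 2 := by
    obtain ⟨k, hk⟩ := hxk
    obtain ⟨Q, hQ⟩ := (IsPGroup.of_card (p := 2) (n := k)
      (by rw [Nat.card_zpowers, hk]) : IsPGroup 2 (Subgroup.zpowers x)).exists_le_sylow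
    obtain ⟨c, hc⟩ := MulAction.exists_smul_eq G Q P
    have hcx : c * x * c⁻¹ ∈ (P : Subgroup G) := by
      rw [← hc, Sylow.coe_subgroup_smul, Subgroup.mem_pointwise_smul_iff_inv_smul_mem]
      simpa [MulAut.smul_def, mul_assoc] using hQ (Subgroup.mem_zpowers x)
    have h1 := mul_self_of_mem_kleinFour P hP hcx
    refine orderOf_eq_prime ?_ hx1
    rw [pow_two]
    calc x * x = c⁻¹ * ((c * x * c⁻¹) * (c * x * c⁻¹)) * c := by group
      _ = 1 := by rw [h1]; group
  obtain ⟨c, hc⟩ := isConj_iff.1 (hone x z hx2 hz2)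
  have hx' := IsPPart.conj hx c
  rw [hc] at hx'
  obtain ⟨y, hy, hcom, -, hyr⟩ := hx'
  exact ⟨c, ⟨y, Subgroup.mem_centralizer_singleton_iff.2 hcom.eq.symm⟩,
    by rwa [← Subgroup.orderOf_coe], hy.symm⟩

/-- The conjugate `v` of `u` in `P` fixing `z` is one of four. -/
theorem kleinFour_cases {z u : G} (hzP : z ∈ (P : Subgroup G)) (hz1 : z ≠ 1)
    (hu : u ∈ (P : Subgroup G)) {n : G} (hv : n * u * n⁻¹ ∈ (P : Subgroup G)) :
    u = 1 ∨ u = z ∨ n * u * n⁻¹ = u ∨ n * u * n⁻¹ = u * z ∨ n * u * n⁻¹ = z := by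
  by_contra hcon
  push Not at hcon
  obtain ⟨h1, h2, h3, h4, h5⟩ := hcon
  have hv1 : n * u * n⁻¹ ≠ 1 := fun h => h1 (conj_eq_one_iff.1 h)
  have huz : (⟨u, hu⟩ : (P : Subgroup G)) ≠ ⟨z, hzP⟩ := fun h => h2 (congrArg Subtype.val h)
  have h := IsKleinFour.eq_mul_of_ne_all (G := (P : Subgroup G)) (x := ⟨u, hu⟩) (y := ⟨z, hzP⟩)
    (z := ⟨n * u * n⁻¹, hv⟩) (fun h => h1 (congrArg Subtype.val h))
    (fun h => hz1 (congrArg Subtype.val h)) huz (fun h => hv1 (congrArg Subtype.val h))
    (fun h => h3 (congrArg Subtype.val h)) (fun h => h5 (congrArg Subtype.val h))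
  exact h4 (congrArg Subtype.val h)

/-- The centralizer of an involution of `P` has a normal 2-complement. -/
theorem centralizer_complement (z : G) (hz2 : orderOf z = 2) (hzP : z ∈ (P : Subgroup G)) :
    (∃ k : ℕ, (pPrimeCore 2 (Subgroup.centralizer ({z} : Set G))).index = 2 ^ k) ∧
      (Nat.card (Subgroup.centralizer ({z} : Set G))).factorization 2 = 2 := by
  classical
  have hz1 : z ≠ 1 := fun h => by simp [h] at hz2
  have hle : (P : Subgroup G) ≤ Subgroup.centralizer ({z} : Set G) := fun w hw => by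
    rw [Subgroup.mem_centralizer_singleton_iff]
    exact congrArg Subtype.val ((IsKleinFour.isMulCommutative (G := (P : Subgroup G))).is_comm.comm
      (⟨w, hw⟩ : (P : Subgroup G)) ⟨z, hzP⟩)
  set PH := P.subtype hle with hPH
  have hmem : ∀ h : Subgroup.centralizer ({z} : Set G),
      h ∈ (PH : Subgroup (Subgroup.centralizer ({z} : Set G))) ↔ (h : G) ∈ (P : Subgroup G) := by
    intro h
    rfl
  have hNC : Subgroup.normalizer ((PH : Subgroup (Subgroup.centralizer ({z} : Set G))) :
      Set (Subgroup.centralizer ({z} : Set G))) ≤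
      Subgroup.centralizer ((PH : Subgroup (Subgroup.centralizer ({z} : Set G))) :
        Set (Subgroup.centralizer ({z} : Set G))) := by
    intro n hn
    rw [Subgroup.mem_centralizer_iff]
    intro u hu
    apply Subtype.ext
    push_cast
    have hnz : (n : G) * z = z * n := Subgroup.mem_centralizer_singleton_iff.1 n.2
    have hnP : ∀ w : G, w ∈ (P : Subgroup G) → (n : G) * w * (n : G)⁻¹ ∈ (P : Subgroup G) := by
      intro w hw
      exact (hmem _).1 ((Subgroup.mem_normalizer_iff.1 hn ⟨w, hle hw⟩).1 ((hmem _).2 hw))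
    have hu' : (u : G) ∈ (P : Subgroup G) := (hmem u).1 hu
    -- the square of `n` centralizes `u`
    have hsq : (n : G) ^ 2 * u = u * (n : G) ^ 2 := by
      have h4 := kleinFour_cases P hP hzP hz1 hu' (hnP _ hu')
      rcases h4 with hu1 | hu1 | hu1 | hu1 | hu1
      · rw [hu1, mul_one, one_mul]
      · rw [hu1]
        exact (Commute.pow_left hnz 2).eq
      · rw [mul_inv_eq_iff_eq_mul] at hu1
        exact (Commute.pow_left hu1 2).eq
      · rw [mul_inv_eq_iff_eq_mul] at hu1
        have hzz := mul_self_of_mem_kleinFour P hP hzP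
        calc (n : G) ^ 2 * u = n * (n * u) := by rw [pow_two, mul_assoc]
          _ = n * (u * z * n) := by rw [hu1]
          _ = (n * u) * z * n := by group
          _ = u * z * (n * z) * n := by rw [hu1]; group
          _ = u * (z * z) * (n * n) := by rw [hnz]; group
          _ = u * (n : G) ^ 2 := by rw [hzz, mul_one, pow_two]
      · have h3 : (u : G) = z := by
          rw [mul_inv_eq_iff_eq_mul, ← hnz] at hu1
          exact mul_left_cancel hu1
        rw [h3]
        exact (Commute.pow_left hnz 2).eq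
    -- an odd power of `n` is in `P`
    obtain ⟨k, m, hm, hnm⟩ := Nat.exists_eq_two_pow_mul_odd (orderOf_pos n).ne'
    have hpg : IsPGroup 2 (Subgroup.zpowers (n ^ m)) := by
      refine IsPGroup.of_card (n := k) ?_
      rw [Nat.card_zpowers, orderOf_pow, hnm, Nat.gcd_eq_right (dvd_mul_left m _),
        Nat.mul_div_cancel _ hm.pos]
    have hPm : n ^ m ∈ (PH : Subgroup (Subgroup.centralizer ({z} : Set G))) := by
      have hj : IsPGroup 2 (Subgroup.zpowers (n ^ m) ⊔
          (PH : Subgroup (Subgroup.centralizer ({z} : Set G))) :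
            Subgroup (Subgroup.centralizer ({z} : Set G))) :=
        hpg.to_sup_of_normal_right' PH.2 (Subgroup.zpowers_le.2 (pow_mem hn m))
      rw [← PH.3 hj le_sup_right]
      exact Subgroup.mem_sup_left (Subgroup.mem_zpowers _)
    have hcm : Commute ((n : G) ^ m) (u : G) := by
      have h := (IsKleinFour.isMulCommutative (G := (P : Subgroup G))).is_comm.comm
        (⟨_, (hmem _).1 hPm⟩ : (P : Subgroup G)) ⟨(u : G), hu'⟩
      have h' := congrArg Subtype.val h
      push_cast at h'
      exact h'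
    obtain ⟨j, hj⟩ := hm
    have hc1 : Commute (n : G) (u : G) := by
      have : (n : G) = ((n : G) ^ 2) ^ (-(j : ℤ)) * (n : G) ^ m := by
        rw [← zpow_natCast (n : G) m, ← zpow_natCast (n : G) 2, ← zpow_mul, ← zpow_add, hj]
        simp
      rw [this]
      exact ((show Commute ((n : G) ^ 2) (u : G) from hsq).zpow_left _).mul_left hcm
    exact hc1.eq.symm
  set K := (MonoidHom.transferSylow PH hNC).ker
  have hKc := MonoidHom.ker_transferSylow_isComplement' PH hNC
  have hKn := MonoidHom.not_dvd_card_ker_transferSylow PH hNC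
  have hcard4 : Nat.card (PH : Subgroup (Subgroup.centralizer ({z} : Set G))) = 4 := by
    rw [show (PH : Subgroup (Subgroup.centralizer ({z} : Set G))) =
      (P : Subgroup G).subgroupOf (Subgroup.centralizer ({z} : Set G)) from rfl,
      Nat.card_congr (Subgroup.subgroupOfEquivOfLe hle).toEquiv, IsKleinFour.card_four]
  have hKle : K ≤ pPrimeCore 2 (Subgroup.centralizer ({z} : Set G)) :=
    le_sSup ⟨inferInstance, (Nat.prime_two.coprime_iff_not_dvd.2 hKn).symm⟩
  refine ⟨?_, ?_⟩
  · have hd := Subgroup.index_dvd_of_le hKle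
    rw [hKc.symm.index_eq_card, hcard4] at hd
    obtain ⟨k, -, hk⟩ := (Nat.dvd_prime_pow Nat.prime_two).1 (show _ ∣ 2 ^ 2 from hd)
    exact ⟨k, hk⟩
  · rw [← hKc.card_mul, hcard4, Nat.factorization_mul Nat.card_pos.ne' (by norm_num),
      Finsupp.add_apply, Nat.factorization_eq_zero_of_not_dvd hKn, zero_add,
      show (4 : ℕ) = 2 ^ 2 from rfl, Nat.Prime.factorization_pow Nat.prime_two,
      Finsupp.single_eq_same]

/-- Degrees are congruent mod 4 to the value at involutions. -/
theorem four_dvd_degree_sub (χ : IrrCharacter G) (a : ℤ)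
    (hinv : ∀ w : G, orderOf w = 2 → (χ : G → ℂ) w = (a : ℂ)) :
    (4 : ℤ) ∣ (charDegree (χ : G → ℂ) : ℤ) - a := by
  classical
  haveI := Fintype.ofFinite (P : Subgroup G)
  obtain ⟨m, hm⟩ := exists_nat_sum_subgroup (P : Subgroup G) χ
  refine ⟨(m : ℤ) - a, ?_⟩
  have hval : ∀ w : (P : Subgroup G), w ≠ 1 → (χ : G → ℂ) (w : G) = (a : ℂ) := by
    intro w hw
    refine hinv _ (orderOf_eq_prime ?_ fun h => hw (Subtype.ext h))
    rw [pow_two]
    exact mul_self_of_mem_kleinFour P hP w.2
  rw [← add_sum_erase univ _ (mem_univ 1), sum_congr rfl fun w hw => hval w (mem_erase.1 hw).1,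
    sum_const, card_erase_of_mem (mem_univ _), card_univ, ← Nat.card_eq_fintype_card,
    IsKleinFour.card_four, OneMemClass.coe_one] at hm
  have h2 : (((charDegree (χ : G → ℂ) : ℤ) - a : ℤ) : ℂ) = ((4 * ((m : ℤ) - a) : ℤ) : ℂ) := by
    push_cast
    rw [coe_charDegree]
    push_cast at hm
    linear_combination hm
  exact_mod_cast h2

end CfsgLib.BlockLocal
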