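import Mathlib

/-!
Odd order automorphisms of a homocyclic group of rank two and exponent `2 ^ m`,
and the structure of `N_G(P) / C_G(P)` for such a Sylow 2-subgroup.
-/

set_option autoImplicit false

namespace CfsgLib.BlockLocal

variable {P : Type*}

/-- An automorphism of odd order of an abelian 2-group fixing all elements of order at most two
is the identity. -/
theorem aut_eq_one_of_fix_omega [CommGroup P] (hP : IsPGroup 2 P) (φ : MulAut P)
    (hodd : Odd (orderOf φ)) (hfix : ∀ d : P, d ^ 2 = 1 → φ d = d) : φ = 1 := by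
  have key : ∀ n : ℕ, ∀ x : P, x ^ 2 ^ n = 1 → φ x = x := by
    intro n
    induction n with
    | zero => intro x hx; rw [pow_zero, pow_one] at hx; rw [hx, map_one]
    | succ n ih =>
      intro x hx
      have h2 : φ (x ^ 2) = x ^ 2 := ih _ (by rwa [← pow_mul, ← pow_succ'])
      set d := x⁻¹ * φ x with hd
      have hd2 : d ^ 2 = 1 := by rw [hd, mul_pow, ← map_pow, h2, inv_pow, inv_mul_cancel]
      have hfd : φ d = d := hfix d hd2
      have hpow : ∀ k : ℕ, (φ ^ k) x = x * d ^ k := by
        intro k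
        induction k with
        | zero => simp
        | succ k ihk =>
          rw [pow_succ', MulAut.mul_apply, ihk, map_mul, map_pow, hfd, pow_succ', hd]
          rw [← mul_assoc, ← mul_assoc, mul_inv_cancel, one_mul]
      have := hpow (orderOf φ)
      rw [pow_orderOf_eq_one] at this
      obtain ⟨j, hj⟩ := hodd
      rw [hj, pow_add, pow_mul, hd2, one_pow, one_mul, pow_one] at this
      have hd1 : d = 1 := by simpa using this.symm
      exact (inv_mul_eq_one.1 hd1).symm
  ext x
  obtain ⟨n, hn⟩ := hP x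
  simpa using key n x hn

/-- In `ZMod (2 ^ m)` the equation `x + x = 0` has at most the two obvious solutions. -/
theorem zmod_double_eq_zero {m : ℕ} (hm : 1 ≤ m) (x : ZMod (2 ^ m)) (hx : x + x = 0) :
    x = 0 ∨ x = ((2 ^ (m - 1) : ℕ) : ZMod (2 ^ m)) := by
  obtain ⟨k, rfl⟩ := Nat.exists_eq_add_of_le hm
  have hv : 2 ^ (1 + k) ∣ x.val + x.val := by
    rw [← ZMod.natCast_eq_zero_iff, Nat.cast_add, ZMod.natCast_zmod_val]; exact hx
  have hlt : x.val < 2 ^ (1 + k) := ZMod.val_lt x
  have hp : 2 ^ (1 + k) = 2 * 2 ^ k := by rw [pow_add, pow_one]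
  have hv' : 2 * 2 ^ k ∣ 2 * x.val := by
    obtain ⟨r, hr⟩ := hv
    exact ⟨r, by rw [← hp]; omega⟩
  obtain ⟨c, hc⟩ := Nat.dvd_of_mul_dvd_mul_left (by norm_num) hv'
  have hlt' : 2 ^ k * c < 2 ^ k * 2 := by rw [← hc]; omega
  have hc2 : c < 2 := Nat.lt_of_mul_lt_mul_left hlt'
  rw [← ZMod.natCast_zmod_val x, Nat.add_sub_cancel_left, hc]
  interval_cases c <;> simp

/-- The group `ZMod (2 ^ m) × ZMod (2 ^ m)` has exactly three involutions. -/
theorem three_involutions {m : ℕ} (hm : 1 ≤ m) [Group P]
    (e : P ≃* Multiplicative (ZMod (2 ^ m) × ZMod (2 ^ m))) :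
    Nat.card {x : P // orderOf x = 2} = 3 := by
  set c : ZMod (2 ^ m) := ((2 ^ (m - 1) : ℕ) : ZMod (2 ^ m)) with hc
  have hcne : c ≠ 0 := by
    rw [hc, Ne, ZMod.natCast_eq_zero_iff]
    intro h
    exact absurd ((Nat.pow_dvd_pow_iff_le_right (by norm_num)).1 h) (by omega)
  have hcc : c + c = 0 := by
    rw [hc, ← Nat.cast_add, ZMod.natCast_eq_zero_iff, ← two_mul, ← pow_succ', Nat.sub_add_cancel hm]
  have key : ∀ x : P, orderOf x = 2 ↔
      (Multiplicative.toAdd (e x) = (c, 0) ∨ Multiplicative.toAdd (e x) = (0, c) ∨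
        Multiplicative.toAdd (e x) = (c, c)) := by
    intro x
    rw [orderOf_eq_prime_iff]
    have h1 : x ^ 2 = 1 ↔ Multiplicative.toAdd (e x) + Multiplicative.toAdd (e x) = 0 := by
      rw [← e.injective.eq_iff, map_pow, map_one, pow_two, ← toAdd_mul, toAdd_eq_zero]
    have h2 : x ≠ 1 ↔ Multiplicative.toAdd (e x) ≠ 0 := by
      rw [Ne, Ne, toAdd_eq_zero, MulEquiv.map_eq_one_iff]
    rw [h1, h2]
    obtain ⟨a, b⟩ := Multiplicative.toAdd (e x)
    constructor
    · rintro ⟨hab, hne⟩
      simp only [Prod.mk_add_mk, Prod.mk_eq_zero] at hab hne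
      rcases zmod_double_eq_zero hm a hab.1 with ha | ha <;>
        rcases zmod_double_eq_zero hm b hab.2 with hb | hb <;> simp_all
    · rintro (h | h | h) <;> rw [h] <;> simp [hcc, hcne]
  have himg : {x : P | orderOf x = 2} =
      (e.toEquiv.trans Multiplicative.toAdd).symm '' ({(c, 0), (0, c), (c, c)} : Set _) := by
    rw [Equiv.image_symm_eq_preimage]
    ext x
    exact key x
  change Nat.card ({x : P | orderOf x = 2} : Set P) = 3
  rw [Nat.card_coe_set_eq, himg, Set.ncard_image_of_injective _ (Equiv.injective _)]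
  rw [Set.ncard_insert_of_notMem (by simp [hcne, Ne.symm hcne]),
    Set.ncard_pair (by simp [Ne.symm hcne])]

/-- An automorphism of odd order of a group `ZMod (2 ^ m) × ZMod (2 ^ m)` is trivial or has order
three; in the second case it fixes only the identity and permutes the involutions transitively. -/
theorem aut_homocyclic_odd {m : ℕ} (hm : 1 ≤ m) [CommGroup P]
    (e : P ≃* Multiplicative (ZMod (2 ^ m) × ZMod (2 ^ m))) (φ : MulAut P)
    (hodd : Odd (orderOf φ)) (hne : φ ≠ 1) :
    orderOf φ = 3 ∧ (∀ z : P, φ z = z → z = 1) ∧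
      ∀ s t : P, orderOf s = 2 → orderOf t = 2 → s = t ∨ φ s = t ∨ φ (φ s) = t := by
  classical
  have hP : IsPGroup 2 P := by
    apply IsPGroup.of_card (n := m + m)
    rw [Nat.card_congr e.toEquiv, Nat.card_congr Multiplicative.toAdd, Nat.card_prod, Nat.card_zmod,
      pow_add]
  have : Finite P := Nat.finite_of_card_ne_zero (by
    rw [Nat.card_congr e.toEquiv, Nat.card_congr Multiplicative.toAdd, Nat.card_prod, Nat.card_zmod]
    positivity)
  let I := {x : P // orderOf x = 2}
  have hI : Nat.card I = 3 := three_involutions hm e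
  haveI : Fintype I := Fintype.ofFinite I
  let π : Equiv.Perm I :=
    φ.toEquiv.subtypeEquiv (fun x => by rw [MulEquiv.toEquiv_eq_coe, EquivLike.coe_coe,
      MulEquiv.orderOf_eq])
  have hπ : ∀ (k : ℕ) (x : I), (((π ^ k) x : I) : P) = (φ ^ k) (x : P) := by
    intro k
    induction k with
    | zero => simp
    | succ k ih =>
      intro x
      rw [pow_succ', Equiv.Perm.mul_apply, pow_succ', MulAut.mul_apply, ← ih]
      rfl
  have hfix : ∀ k : ℕ, π ^ k = 1 → φ ^ k = 1 := by
    intro k hk
    refine aut_eq_one_of_fix_omega hP _ ?_ ?_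
    · exact Odd.of_dvd_nat hodd (orderOf_pow_dvd k)
    · intro d hd
      by_cases hd1 : d = 1
      · simp [hd1]
      · rw [← hπ k ⟨d, orderOf_eq_prime hd hd1⟩, hk]; rfl
  have hdvd : orderOf φ ∣ orderOf π := orderOf_dvd_of_pow_eq_one (hfix _ (pow_orderOf_eq_one π))
  have hdvd2 : orderOf π ∣ orderOf φ := by
    apply orderOf_dvd_of_pow_eq_one
    ext x
    rw [hπ, pow_orderOf_eq_one]
    rfl
  have heq : orderOf φ = orderOf π := Nat.dvd_antisymm hdvd hdvd2
  have h6 : orderOf π ∣ 6 := by
    have h : orderOf π ∣ Nat.card (Equiv.Perm I) := orderOf_dvd_natCard π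
    rw [Nat.card_perm, hI] at h
    exact h
  have hne1 : orderOf φ ≠ 1 := fun h => hne (orderOf_eq_one_iff.1 h)
  have h3 : orderOf φ = 3 := by
    rw [← heq] at h6
    have hle : orderOf φ ≤ 6 := Nat.le_of_dvd (by norm_num) h6
    obtain ⟨j, hj⟩ := hodd
    rcases (by omega : orderOf φ = 1 ∨ orderOf φ = 3 ∨ orderOf φ = 5) with h | h | h
    · exact absurd h hne1
    · exact h
    · rw [h] at h6; norm_num at h6
  -- a permutation of order three of a three element set moves every point
  have hmove : ∀ x : I, π x ≠ x := by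
    intro x hx
    have hp : Fact (Nat.Prime 3) := ⟨by norm_num⟩
    have ho : orderOf π = 3 := heq ▸ h3
    obtain ⟨n, hn⟩ := Equiv.Perm.cycleType_prime_order (σ := π) (by rw [ho]; norm_num)
    have hs := π.sum_cycleType
    rw [hn, ho, Multiset.sum_replicate, smul_eq_mul] at hs
    have hle : π.support.card ≤ 3 := by
      rw [← hI, Nat.card_eq_fintype_card]; exact Finset.card_le_univ _
    have hfull : π.support = Finset.univ := by
      apply Finset.eq_univ_of_card
      rw [← Nat.card_eq_fintype_card, hI]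
      omega
    have : x ∈ π.support := by rw [hfull]; exact Finset.mem_univ x
    exact Equiv.Perm.mem_support.1 this hx
  refine ⟨h3, ?_, ?_⟩
  · intro z hz
    by_contra hz1
    obtain ⟨k, hk⟩ := hP z
    obtain ⟨j, hj, hj2⟩ := (Nat.dvd_prime_pow Nat.prime_two).1 (orderOf_dvd_of_pow_eq_one hk)
    have hjpos : j ≠ 0 := fun h => hz1 (orderOf_eq_one_iff.1 (by rw [hj2, h, pow_zero]))
    have hord : orderOf (z ^ 2 ^ (j - 1)) = 2 := by
      rw [orderOf_pow_of_dvd (pow_ne_zero _ two_ne_zero) (hj2 ▸ pow_dvd_pow 2 (by omega)), hj2,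
        Nat.pow_div (by omega) two_pos, show j - (j - 1) = 1 by omega, pow_one]
    refine hmove ⟨_, hord⟩ (Subtype.ext ?_)
    show φ (z ^ 2 ^ (j - 1)) = z ^ 2 ^ (j - 1)
    rw [map_pow, hz]
  · intro s t hs ht
    set a : I := ⟨s, hs⟩
    have ha1 : π a ≠ a := hmove a
    have ha2 : π (π a) ≠ π a := hmove _
    have ha3 : π (π a) ≠ a := by
      intro h
      have h' : (π ^ 3) a = a := by rw [← h3, heq, pow_orderOf_eq_one]; rfl
      rw [pow_succ', Equiv.Perm.mul_apply, pow_two, Equiv.Perm.mul_apply, h] at h'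
      exact ha1 h'
    have huniv : ({a, π a, π (π a)} : Finset I) = Finset.univ := by
      apply Finset.eq_univ_of_card
      rw [Finset.card_insert_of_notMem (by simp [Ne.symm ha1, Ne.symm ha3]),
        Finset.card_pair (Ne.symm ha2), ← Nat.card_eq_fintype_card, hI]
    have := Finset.mem_univ (⟨t, ht⟩ : I)
    rw [← huniv, Finset.mem_insert, Finset.mem_insert, Finset.mem_singleton] at this
    rcases this with h | h | h
    · left; exact (congrArg Subtype.val h).symm
    · right; left; exact (congrArg Subtype.val h).symm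
    · right; right; exact (congrArg Subtype.val h).symm

variable {G : Type*} [Group G] [Finite G]

/-- For an abelian Sylow `2`-subgroup the automorphisms induced by its normalizer have odd order. -/
theorem odd_orderOf_normalizerMonoidHom (P : Sylow 2 G) [IsMulCommutative P]
    (n : Subgroup.normalizer ((P : Subgroup G) : Set G)) :
    Odd (orderOf ((P : Subgroup G).normalizerMonoidHom n)) := by
  set f := (P : Subgroup G).normalizerMonoidHom
  have h1 : orderOf (f n) ∣ Nat.card f.range := by
    have h := orderOf_dvd_natCard (⟨f n, ⟨n, rfl⟩⟩ : f.range)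
    rwa [← Subgroup.orderOf_coe] at h
  rw [← Subgroup.index_ker, Subgroup.normalizerMonoidHom_ker] at h1
  have h2 : (Subgroup.centralizer ((P : Subgroup G) : Set G)).relIndex
      (Subgroup.normalizer ((P : Subgroup G) : Set G)) ∣ (P : Subgroup G).index :=
    (Subgroup.relIndex_dvd_of_le_left _ P.le_centralizer).trans
      (Subgroup.relIndex_dvd_index_of_le P.le_normalizer)
  have h3 : Odd (P : Subgroup G).index :=
    Nat.not_even_iff_odd.1 (fun he => P.not_dvd_index (even_iff_two_dvd.1 he))
  exact Odd.of_dvd_nat (Odd.of_dvd_nat h3 h2) h1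

end CfsgLib.BlockLocal
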