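import Cfsg.Agent.Lib.BlockSections.ExceptionalInvolution
import Cfsg.Agent.Lib.CharTheory.Linear
import Cfsg.Agent.Lib.Blocks.Knorr
import Cfsg.Agent.Lib.Cores.PCore
import Cfsg.Agent.S0945
import Mathlib.GroupTheory.Transfer

/-!
# Brauer's theorem on homocyclic Sylow 2-subgroups of rank two

The block equation for a fixed-point-free action of order three at the prime two forces a
nontrivial linear character with the Sylow subgroup in its kernel.
-/

set_option autoImplicit false
set_option linter.unusedSectionVars false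
set_option linter.style.haveILetI false

namespace CfsgLib.BlockLocal

open Cfsg CfsgLib.CharTheory CfsgLib.Blocks CfsgLib.BrauerCharacters CfsgLib.BlockSections
  CfsgLib.BlockSections.Exceptional Finset
open scoped ComplexConjugate

section Linear

variable {G : Type*} [Group G] [Fintype G] {p : ℕ} [hp : Fact p.Prime] {P : Sylow p G} {m : ℕ}
  (hF : IsFrobSylow P m) {M : Ideal AlgInt} [M.IsPrime] (hM : IsPModular p M)
include hF hM

open scoped Classical in
/-- For `p = 2` some nontrivial linear character is trivial on `P`. -/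
theorem exists_linear_of_two (hm : m = 3) (hp2 : p = 2) (D : ExcData p M P m) (hd : D.d = 0)
    {χA χB : IrrCharacter G} (hAB : χA ≠ χB) (hA1 : χA ≠ trivIrr G) (hB1 : χB ≠ trivIrr G)
    (hX : D.X = {trivIrr G, χA, χB}) (hAs : D.a χA = 1 ∨ D.a χA = -1)
    (hBs : D.a χB = 1 ∨ D.a χB = -1) {t : G} (hto : orderOf t = 2) :
    ∃ χ : IrrCharacter G, χ ≠ trivIrr G ∧ (χ : G → ℂ) 1 = 1 ∧
      ∀ v : (P : Subgroup G), (χ : G → ℂ) v = 1 := by
  haveI := hF.comm
  letI : CommGroup (P : Subgroup G) := { mul_comm := mul_comm' }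
  haveI := Fintype.ofFinite ((P : Subgroup G) →* ℂˣ)
  -- move the involution into `P`
  obtain ⟨Q, hQ⟩ := (IsPGroup.of_card (p := p) (n := 1) (show Nat.card (Subgroup.zpowers t) = p ^ 1 by
    rw [Nat.card_zpowers, hto, pow_one, hp2])).exists_le_sylow
  obtain ⟨c, hc⟩ := MulAction.exists_smul_eq G P Q
  rw [← hc] at hQ
  obtain ⟨w, hwP, hwt⟩ := Subgroup.mem_map.1 (hQ (Subgroup.mem_zpowers t))
  change c * w * c⁻¹ = t at hwt
  have hwo : orderOf w = 2 := by
    rw [← MulEquiv.orderOf_eq (MulAut.conj c) w, MulAut.conj_apply, hwt, hto]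
  have hw1 : w ≠ 1 := fun e => by rw [e, orderOf_one] at hwo; norm_num at hwo
  set t₀ : (P : Subgroup G) := ⟨w, hwP⟩
  have ht2 : w * w = 1 := by rw [← pow_two, ← hwo]; exact pow_orderOf_eq_one w
  have ht₀ : t₀ * t₀ = 1 := Subtype.ext ht2
  have ht₀1 : t₀ ≠ 1 := fun e => hw1 (congrArg Subtype.val e)
  -- the order of `P`
  have hr2 := D.two_le
  have hq := D.card_Y
  obtain ⟨k, hk⟩ := IsPGroup.iff_card.1 P.2
  have hq10 : 10 ≤ Nat.card (P : Subgroup G) := by
    by_contra hlt
    have hmul : Nat.card D.Y * m = Nat.card D.Y * 3 := congrArg _ hm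
    have hr : Nat.card D.Y = 2 := by omega
    have h7 : Nat.card (P : Subgroup G) = 7 := by omega
    have h2 : 2 ∣ Nat.card (P : Subgroup G) := by
      rcases Nat.eq_zero_or_pos k with e | e
      · rw [e, pow_zero] at hk; omega
      · rw [hk, hp2]; exact dvd_pow_self 2 e.ne'
    omega
  -- an element that is not a product of two conjugates of the involution
  obtain ⟨y, hy, hno⟩ : ∃ y : (P : Subgroup G), y ≠ 1 ∧
      ∀ α ∈ autP P, ∀ β ∈ autP P, α t₀ * β t₀ ≠ y := by
    set S := (univ : Finset (autP P × autP P)).image fun x =>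
      (x.1 : MulAut (P : Subgroup G)) t₀ * (x.2 : MulAut (P : Subgroup G)) t₀
    have h1 : (1 : (P : Subgroup G)) ∈ S := mem_image.2 ⟨(1, 1), mem_univ _, ht₀⟩
    have hcard : S.card ≤ 9 := by
      refine card_image_le.trans ?_
      rw [card_univ, Fintype.card_prod, ← Nat.card_eq_fintype_card, card_autP hF, hm]
    obtain ⟨y, -, hy⟩ := exists_mem_notMem_of_card_lt_card (t := (univ : Finset (P : Subgroup G)))
      (s := S) (by rw [card_univ, ← Nat.card_eq_fintype_card]; omega)
    exact ⟨y, fun e => hy (e ▸ h1), fun α hα β hβ e =>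
      hy (mem_image.2 ⟨(⟨α, hα⟩, ⟨β, hβ⟩), mem_univ _, e⟩)⟩
  have hy' : (y : G) ≠ 1 := fun e => hy (Subtype.ext e)
  have hvan := sum_involution_eq_zero hF hM ht2 y.2 hy'
    fun x z hz hx => two_pairs hF hm hp2 ht₀ ht₀1 hy hno hz hx
  -- degrees
  obtain ⟨η₀, hη₀⟩ : D.Y.Nonempty := Set.nonempty_coe_sort.1 (Nat.card_pos_iff.1 (by omega)).1
  set A : ℤ := (charDegree (χA : G → ℂ) : ℤ)
  set B : ℤ := (charDegree (χB : G → ℂ) : ℤ)
  set E : ℤ := (charDegree (η₀ : G → ℂ) : ℤ)
  have hA : (χA : G → ℂ) 1 = (A : ℂ) := by rw [(charDegree_spec χA).1]; simp [A]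
  have hB : (χB : G → ℂ) 1 = (B : ℂ) := by rw [(charDegree_spec χB).1]; simp [B]
  have hE : ∀ η ∈ D.Y, (η : G → ℂ) 1 = (E : ℂ) := fun η hη => by
    rw [D.agree η hη η₀ hη₀ 1 (by rw [orderOf_one]; exact hp.out.not_dvd_one), (charDegree_spec η₀).1]
    simp [E]
  have hA0 : 0 < A := Int.natCast_pos.2 (charDegree_spec χA).2.1
  have hB0 : 0 < B := Int.natCast_pos.2 (charDegree_spec χB).2.1
  have hE0 : 0 < E := Int.natCast_pos.2 (charDegree_spec η₀).2.1
  have hXsum : ∀ f : IrrCharacter G → ℂ, ∑ᶠ χ ∈ D.X, f χ = f (trivIrr G) + (f χA + f χB) := by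
    intro f
    rw [hX, finsum_mem_insert f (by simp [Ne.symm hA1, Ne.symm hB1]) (Set.toFinite _),
      finsum_mem_pair hAB]
  have hmemA : χA ∈ D.X := by rw [hX]; simp
  have hmemB : χB ∈ D.X := by rw [hX]; simp
  have e1 : 1 + D.a χA * A + D.a χB * B = D.δ * E := by
    have h := D.reg η₀ hη₀ 1 (by rw [orderOf_one]; exact hp.out.not_dvd_one)
    rw [hXsum, hd, D.a_triv, trivIrr_apply, hA, hB, hE η₀ hη₀] at h
    apply Int.cast_injective (α := ℂ)
    push_cast at h ⊢
    linear_combination h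
  -- the exceptional side of the vanishing sum
  have hval : ∀ χ ∈ D.X, ∀ v : (P : Subgroup G), v ≠ 1 → (χ : G → ℂ) v = (D.a χ : ℂ) := fun χ hχ v hv =>
    D.val_X χ hχ v v (isPPart_self hF hM v.2) v.2 fun e => hv (Subtype.ext e)
  have hY : ∑ᶠ χ ∈ D.Y, (χ : G → ℂ) w ^ 2 / (χ : G → ℂ) 1 * (χ : G → ℂ) y =
      (-9 : ℂ) * D.δ / E := by
    have hfib : ∀ ψ : (P : Subgroup G) →* ℂˣ, ψ ≠ 1 → ∀ v : (P : Subgroup G), v ≠ 1 →
        (D.ζ ψ : G → ℂ) v = (D.δ : ℂ) * ∑ α : autP P,
          ((ψ ((α : MulAut (P : Subgroup G)) v) : ℂˣ) : ℂ) := by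
      intro ψ hψ v hv
      rw [D.val_Y ψ hψ v v (isPPart_self hF hM v.2) (fun e => hv (Subtype.ext e)), hd, Int.cast_zero,
        zero_add]
      congr 1
      have hset : {ψ' | NRel P ψ ψ'} = Set.range fun α : autP P =>
          ψ.comp (α : MulAut (P : Subgroup G)).toMonoidHom := by
        ext ψ'
        constructor
        · rintro ⟨α, hα, he⟩
          refine ⟨⟨α⁻¹, inv_mem hα⟩, ?_⟩
          rw [← he]
          exact MonoidHom.ext fun u => congrArg ψ' (α.apply_symm_apply u)
        · rintro ⟨α, rfl⟩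
          exact ⟨(α : MulAut (P : Subgroup G))⁻¹, inv_mem α.2, MonoidHom.ext fun u =>
            congrArg ψ ((α : MulAut (P : Subgroup G)).apply_symm_apply u)⟩
      rw [hset, finsum_mem_range fun α β e => Subtype.ext (autP_eq_of_nRel hF α.2 β.2 hψ e),
        finsum_eq_sum_of_fintype]
      rfl
    set Φ : ((P : Subgroup G) →* ℂˣ) → ℂ := fun ψ =>
      (∑ α : autP P, (ψ ((α : MulAut (P : Subgroup G)) t₀) : ℂ)) ^ 2 * (ψ y : ℂ)
    have hstep : ∀ η ∈ D.Y.toFinite.toFinset, (η : G → ℂ) w ^ 2 / (η : G → ℂ) 1 * (η : G → ℂ) y =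
        (D.δ : ℂ) / E * ∑ ψ ∈ (univ.erase (1 : (P : Subgroup G) →* ℂˣ)).filter (fun ψ => D.ζ ψ = η), Φ ψ := by
      intro η hη
      have hη' : η ∈ D.Y := by simpa using hη
      obtain ⟨ψ₀, hψ₀, rfl⟩ := D.ζ_surj η hη'
      have hcongr : ∀ ψ ∈ (univ.erase (1 : (P : Subgroup G) →* ℂˣ)).filter (fun ψ => D.ζ ψ = D.ζ ψ₀),
          Φ ψ = (D.ζ ψ₀ : G → ℂ) w ^ 2 * (ψ y : ℂ) := by
        intro ψ hψ
        simp only [mem_filter, mem_erase, mem_univ, and_true] at hψ
        rw [← hψ.2, show w = (t₀ : G) from rfl, hfib ψ hψ.1 t₀ ht₀1]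
        simp only [Φ]
        rcases D.sign with e | e <;> rw [e] <;> push_cast <;> ring
      rw [sum_congr rfl hcongr, ← mul_sum, hE _ hη']
      rw [D.val_Y ψ₀ hψ₀ y y (isPPart_self hF hM y.2) hy', hd, Int.cast_zero, zero_add,
        finsum_mem_eq_finite_toFinset_sum _ (Set.toFinite _)]
      rw [sum_congr (s₂ := (univ.erase (1 : (P : Subgroup G) →* ℂˣ)).filter (fun ψ => D.ζ ψ = D.ζ ψ₀))
        (Finset.ext fun x => ?_) fun _ _ => rfl]
      · ring
      · simp only [mem_filter, mem_erase, mem_univ, and_true, Set.Finite.mem_toFinset,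
          Set.mem_ofPred_eq]
        refine ⟨fun h => ?_, fun h => (D.ζ_eq ψ₀ x hψ₀ h.1).1 h.2⟩
        have hx1 : x ≠ 1 := by
          obtain ⟨α, -, hα⟩ := h
          rintro rfl
          exact hψ₀ (hα.symm.trans (MonoidHom.ext fun _ => rfl))
        exact ⟨hx1, (D.ζ_eq ψ₀ x hψ₀ hx1).2 h⟩
    rw [finsum_mem_eq_finite_toFinset_sum _ D.Y.toFinite, sum_congr rfl hstep, ← mul_sum,
      sum_fiberwise_of_maps_to (fun ψ hψ => by
        simpa using D.ζ_mem ψ (mem_erase.1 hψ).1)]
    have h0 : ∑ ψ : (P : Subgroup G) →* ℂˣ, Φ ψ = 0 := by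
      simp only [Φ, pow_two, sum_mul_sum]
      simp only [sum_mul]
      rw [sum_comm]
      refine sum_eq_zero fun α _ => ?_
      rw [sum_comm]
      refine sum_eq_zero fun β _ => ?_
      rw [sum_congr rfl (g := fun ψ : (P : Subgroup G) →* ℂˣ => ((ψ ((α : MulAut (P : Subgroup G)) t₀ *
        (β : MulAut (P : Subgroup G)) t₀ * y) : ℂˣ) : ℂ)) (fun ψ _ => by
          rw [map_mul, map_mul, Units.val_mul, Units.val_mul]), sum_hom_apply, if_neg]
      intro e
      have hinv : ∀ γ : autP P, ((γ : MulAut (P : Subgroup G)) t₀)⁻¹ = (γ : MulAut (P : Subgroup G)) t₀ :=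
        fun γ => inv_eq_of_mul_eq_one_right (by rw [← map_mul, ht₀, map_one])
      have := eq_inv_of_mul_eq_one_right e
      rw [mul_inv_rev, hinv, hinv] at this
      exact hno β β.2 α α.2 this.symm
    rw [← add_sum_erase _ _ (mem_univ (1 : (P : Subgroup G) →* ℂˣ))] at h0
    have h9 : Φ 1 = 9 := by
      simp only [Φ, MonoidHom.one_apply, Units.val_one, sum_const, card_univ, nsmul_eq_mul, mul_one,
        ← Nat.card_eq_fintype_card, card_autP hF, hm]
      norm_num
    rw [h9] at h0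
    rw [show ∑ ψ ∈ univ.erase (1 : (P : Subgroup G) →* ℂˣ), Φ ψ = -9 by linear_combination h0]
    ring
  have hEC : (E : ℂ) ≠ 0 := Int.cast_ne_zero.2 hE0.ne'
  have hAC : (A : ℂ) ≠ 0 := Int.cast_ne_zero.2 hA0.ne'
  have hBC : (B : ℂ) ≠ 0 := Int.cast_ne_zero.2 hB0.ne'
  have e2 : (A * B + D.a χA * B + D.a χB * A) * E = 9 * D.δ * (A * B) := by
    rw [sum_split hM D, hXsum, hY, trivIrr_apply, trivIrr_apply, trivIrr_apply, hA, hB,
      show w = (t₀ : G) from rfl, hval _ hmemA t₀ ht₀1, hval _ hmemB t₀ ht₀1, hval _ hmemA y hy,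
      hval _ hmemB y hy] at hvan
    field_simp at hvan
    apply Int.cast_injective (α := ℂ)
    push_cast
    rcases hAs with ea | ea <;> rcases hBs with eb | eb <;> rw [ea, eb] at hvan ⊢ <;>
      push_cast at hvan ⊢ <;> linear_combination hvan
  have hδ2 : D.δ * D.δ = 1 := by rcases D.sign with e | e <;> rw [e] <;> norm_num
  have e3 : (1 + D.a χA * A + D.a χB * B) * (A * B + D.a χA * B + D.a χB * A) = 9 * (A * B) := by
    rw [e1]
    linear_combination D.δ * e2 + 9 * (A * B) * hδ2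
  have hcong : ∀ χ ∈ D.X, D.a χ = -1 → 9 ≤ (charDegree (χ : G → ℂ) : ℤ) := by
    intro χ hχ ha
    have h := Int.le_of_dvd (by
      have := (charDegree_spec χ).2.1
      omega) (D.dvd χ hχ)
    omega
  rcases hAs with ea | ea <;> rcases hBs with eb | eb <;> rw [ea, eb] at e3
  · have hA1' : A = 1 := by
      by_contra hne
      have h1 := pow_two_pos_of_ne_zero (sub_ne_zero.2 hne)
      nlinarith [mul_nonneg hA0.le (sq_nonneg (B - 1)), mul_pos hB0 h1, sq_nonneg (A - B)]
    refine ⟨χA, hA1, by rw [hA, hA1', Int.cast_one], fun v => ?_⟩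
    by_cases hv : v = 1
    · rw [hv, OneMemClass.coe_one, hA, hA1', Int.cast_one]
    · rw [hval _ hmemA v hv, ea, Int.cast_one]
  · exact (false_of_mixed (A := A) (B := B) (by have := hcong χB hmemB eb; omega) hA0
      (by linear_combination e3)).elim
  · exact (false_of_mixed (A := B) (B := A) (by have := hcong χA hmemA ea; omega) hB0
      (by linear_combination e3)).elim
  · have hA9 := hcong χA hmemA ea
    have hB9 := hcong χB hmemB eb
    exfalso
    nlinarith [mul_pos hA0 hB0, mul_le_mul_of_nonneg_left hA9 hB0.le, mul_le_mul_of_nonneg_left hB9 hA0.le]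
end Linear

universe u

/-- The case of a normal Sylow subgroup. -/
theorem of_normal {G : Type u} [Group G] [Finite G] (P : Sylow 2 G)
    [hPn : (P : Subgroup G).Normal] (hcomm : IsMulCommutative (P : Subgroup G))
    (hO : ∀ N : Subgroup G, N.Normal → Odd (Nat.card N) → N = ⊥)
    (h13 : (Subgroup.centralizer ((P : Subgroup G) : Set G)).relIndex
      (Subgroup.normalizer ((P : Subgroup G) : Set G)) = 1 ∨
      (Subgroup.centralizer ((P : Subgroup G) : Set G)).relIndex
      (Subgroup.normalizer ((P : Subgroup G) : Set G)) = 3) :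
    Subgroup.centralizer ((P : Subgroup G) : Set G) = (P : Subgroup G) ∧
      ((P : Subgroup G).index = 1 ∨ (P : Subgroup G).index = 3) := by
  haveI := hcomm
  set C := Subgroup.centralizer ((P : Subgroup G) : Set G) with hC
  have hPC : (P : Subgroup G) ≤ C := fun x hx => Subgroup.mem_centralizer_iff.2 fun y hy =>
    congrArg Subtype.val (mul_comm' (⟨y, hy⟩ : (P : Subgroup G)) ⟨x, hx⟩)
  set V := (P.subtype hPC : Sylow 2 C) with hV
  have hnc : Subgroup.normalizer ((V : Subgroup C) : Set C) ≤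
      Subgroup.centralizer ((V : Subgroup C) : Set C) := fun n _ =>
    Subgroup.mem_centralizer_iff.2 fun y hy =>
      Subtype.ext (Subgroup.mem_centralizer_iff.1 n.2 (y : G) hy)
  have hcomp := MonoidHom.ker_transferSylow_isComplement' V hnc
  set O := (MonoidHom.transferSylow V hnc).ker with hOdef
  have hOodd : Odd (Nat.card O) := by
    rw [Nat.odd_iff, ← Nat.two_dvd_ne_zero]
    exact MonoidHom.not_dvd_card_ker_transferSylow V hnc
  have hmem : ∀ x : C, x ∈ O ↔ Odd (orderOf x) := by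
    intro x
    refine ⟨fun h => hOodd.of_dvd_nat (Subgroup.orderOf_dvd_natCard O h), fun h => ?_⟩
    rw [hOdef, MonoidHom.mem_ker, ← orderOf_eq_one_iff]
    obtain ⟨k, hk⟩ := IsPGroup.iff_card.1 V.2
    exact Nat.eq_one_of_dvd_coprimes (a := orderOf x) (b := 2 ^ k)
      ((Nat.coprime_two_right.2 h).pow_right k) (orderOf_map_dvd _ x)
      ((orderOf_dvd_natCard _).trans (dvd_of_eq hk))
  haveI hCn : C.Normal := Subgroup.normal_centralizer
  have hOn : (O.map C.subtype).Normal := by
    refine ⟨?_⟩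
    rintro _ ⟨x, hx, rfl⟩ g
    refine ⟨⟨g * x * g⁻¹, hCn.conj_mem _ x.2 g⟩, ?_, rfl⟩
    refine (hmem _).2 ?_
    rw [← Subgroup.orderOf_coe]
    show Odd (orderOf (MulAut.conj g (x : G)))
    rw [MulEquiv.orderOf_eq, Subgroup.orderOf_coe]
    exact (hmem x).1 hx
  have hObot : O = ⊥ := by
    have h := hO _ hOn (by rwa [Subgroup.card_map_of_injective C.subtype_injective])
    exact (Subgroup.map_eq_bot_iff_of_injective _ C.subtype_injective).1 h
  rw [hObot, Subgroup.isComplement'_bot_left] at hcomp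
  have hCP : C = (P : Subgroup G) := le_antisymm (fun x hx => by
    have h : (⟨x, hx⟩ : C) ∈ (V : Subgroup C) := by rw [hcomp]; trivial
    exact h) hPC
  refine ⟨hCP, ?_⟩
  rwa [hCP, Subgroup.normalizer_eq_top_iff.2 hPn, Subgroup.relIndex_top_right] at h13

/-- Brauer's theorem. -/
theorem normal_of_homocyclic {m : ℕ} (hm : 2 ≤ m) : ∀ (n : ℕ) (G : Type u) [Group G] [Finite G],
    Nat.card G = n → ∀ P : Sylow 2 G,
      Nonempty ((P : Subgroup G) ≃* Multiplicative (ZMod (2 ^ m) × ZMod (2 ^ m))) →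
      (∀ N : Subgroup G, N.Normal → Odd (Nat.card N) → N = ⊥) → (P : Subgroup G).Normal := by
  intro n
  induction n using Nat.strong_induction_on with
  | _ n ih =>
    intro G _ _ hn P he hO
    obtain ⟨e⟩ := he
    haveI := Fintype.ofFinite G
    have hcomm : IsMulCommutative (P : Subgroup G) :=
      ⟨⟨fun a b => e.injective (by rw [map_mul, map_mul, mul_comm])⟩⟩
    obtain ⟨h13, hfree⟩ := Cfsg.Agent.S0945.result P m (by omega) e
    rcases h13 with h1 | h3
    · have hnc : Subgroup.normalizer ((P : Subgroup G) : Set G) ≤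
          Subgroup.centralizer ((P : Subgroup G) : Set G) := Subgroup.relIndex_eq_one.1 h1
      have hcomp := MonoidHom.ker_transferSylow_isComplement' P hnc
      have hodd : Odd (Nat.card (MonoidHom.transferSylow P hnc).ker) := by
        rw [Nat.odd_iff, ← Nat.two_dvd_ne_zero]
        exact MonoidHom.not_dvd_card_ker_transferSylow P hnc
      rw [hO _ inferInstance hodd, Subgroup.isComplement'_bot_left] at hcomp
      rw [hcomp]
      infer_instance
    obtain ⟨M, hM⟩ := exists_isPModular_of_prime Nat.prime_two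
    haveI := isPrime_of_isPModular hM
    have hF : IsFrobSylow P 3 := ⟨hcomm, h3, hfree (by rw [h3]; norm_num)⟩
    have hcard : Nat.card (P : Subgroup G) = 2 ^ m * 2 ^ m := by
      rw [Nat.card_congr e.toEquiv, Nat.card_congr Multiplicative.toAdd, Nat.card_prod,
        Nat.card_zmod]
    have h4 : 2 ^ 2 ≤ 2 ^ m := Nat.pow_le_pow_right (by norm_num) hm
    obtain ⟨D₀⟩ := exists_excData hF hM (by norm_num) (by rw [hcard]; nlinarith)
    obtain ⟨D, hd⟩ := exists_zeroShift hcomm D₀
    obtain ⟨hX3, hsign⟩ := card_X_three D hd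
    obtain ⟨χA, χB, hAB, hpair⟩ : ∃ χA χB : IrrCharacter G, χA ≠ χB ∧
        D.X \ {trivIrr G} = {χA, χB} := by
      refine Set.ncard_eq_two.1 ?_
      rw [Set.ncard_sdiff_singleton_of_mem D.triv, ← Nat.card_coe_set_eq, hX3]
    have hA : χA ∈ D.X ∧ χA ≠ trivIrr G := by
      have : χA ∈ D.X \ {trivIrr G} := by rw [hpair]; simp
      simpa using this
    have hB : χB ∈ D.X ∧ χB ≠ trivIrr G := by
      have : χB ∈ D.X \ {trivIrr G} := by rw [hpair]; simp
      simpa using this
    have hX : D.X = {trivIrr G, χA, χB} := by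
      rw [← hpair, Set.insert_sdiff_singleton, Set.insert_eq_of_mem D.triv]
    obtain ⟨t, ht⟩ := exists_prime_orderOf_dvd_card' (G := G) 2 (by
      refine Nat.dvd_trans ?_ (Subgroup.card_subgroup_dvd_card (P : Subgroup G))
      rw [hcard]
      exact dvd_mul_of_dvd_left (dvd_pow_self 2 (by omega)) _)
    obtain ⟨χ, hχne, hχ1, hχP⟩ := exists_linear_of_two hF hM rfl rfl D hd hAB hA.2 hB.2 hX
      (hsign _ hA.1) (hsign _ hB.1) ht
    obtain ⟨μ, hμ⟩ := exists_hom_of_degree_one χ.2 hχ1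
    set K := μ.ker with hK
    have hPK : (P : Subgroup G) ≤ K := fun v hv => by
      have h := hχP ⟨v, hv⟩
      rw [hμ] at h
      exact Units.ext h
    have hlt : Nat.card K < n := by
      rw [← hn]
      refine lt_of_le_of_ne (Subgroup.card_le_card_group K) fun he => hχne (Subtype.ext ?_)
      have hKtop := Subgroup.eq_top_of_card_eq K he
      rw [hμ]
      funext g
      have hg : g ∈ K := by rw [hKtop]; trivial
      rw [MonoidHom.mem_ker.1 hg]
      rfl
    set Q := (P.subtype hPK : Sylow 2 K) with hQ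
    have hOK : ∀ N : Subgroup K, N.Normal → Odd (Nat.card N) → N = ⊥ := by
      refine CfsgLib.Cores.oddCore_eq_bot_iff.1 ?_
      have hn' : ((oddCore K).map K.subtype).Normal := CfsgLib.Cores.normal_map_subtype K (oddCore K)
      have h := hO _ hn' (by
        rw [Subgroup.card_map_of_injective K.subtype_injective]
        exact CfsgLib.Cores.odd_card_oddCore)
      exact (Subgroup.map_eq_bot_iff_of_injective _ K.subtype_injective).1 h
    haveI hQn : (Q : Subgroup K).Normal := ih _ hlt K rfl Q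
      ⟨(Subgroup.subgroupOfEquivOfLe hPK).trans e⟩ hOK
    haveI := Sylow.characteristic_of_normal Q hQn
    have h := CfsgLib.Cores.normal_map_subtype K (Q : Subgroup K)
    rwa [hQ, Sylow.coe_subtype, Subgroup.subgroupOf_map_subtype, inf_eq_left.2 hPK] at h

end CfsgLib.BlockLocal
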